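import Cfsg.Agent.S5785
import Cfsg.Agent.S0280
import Cfsg.Agent.S0243
import Cfsg.Agent.H844.USeven
import Cfsg.Agent.H499.TTSmall
import Cfsg.Agent.H264.FKS.ResCore
import Cfsg.Agent.H264.FKS.Res
import Cfsg.Agent.H251.GeoUMain
import Cfsg.Agent.H251.Small.Main
import Cfsg.Agent.H149.PGUGoal
import Cfsg.Agent.H934.OutB
import Cfsg.Agent.H947.El.PsuC
import Cfsg.Agent.H453.OddM.Defs

/-!
# TEAM ODDM (S4785): the residual class of `PSU_4(q)`, `q` odd

`u4_res` : a maximal subgroup of `PSU_4(q)`, `q` odd, of odd index, which meets the real classes, is not in the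
residual class of the Aschbacher theorem (S5785: its socle would be `A_7`, `L_3(4)` or `U_4(2)`).
-/

set_option autoImplicit false

namespace Cfsg.Agent.H924.OddM

open Cfsg Cfsg.Geo Cfsg.Agent.OrdDiv Cfsg.Agent.H453.OddM Cfsg.Agent.H251.GeoU Cfsg.Agent.H264.FKS
open scoped Matrix MatrixGroups

theorem pre_max {F : Type*} [Field F] [Fintype F] {n q : ℕ} {M : Subgroup (PSU n F q)} (hM : IsCoatom M) :
    IsMaximalIn (Cfsg.GU n F q ⊓ specialLinear (Fin n) F) (pre M) := by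
  have := Cfsg.Agent.H947.El.isMaximalIn_of_coatom (QuotientGroup.mk' (Subgroup.center (SU n F q)))
    (QuotientGroup.mk'_surjective _) (H918.suHom n F q) H918.suHom_injective hM
  rwa [H918.range_suHom] at this

/-- `|Aut S|` from a name of `S` -/
theorem card_dvd_of_equiv {T : Type} [Group T] [Finite T] {M : Subgroup T} (S : Subgroup M) [S.Normal]
    (hC : Subgroup.centralizer (S : Set M) = ⊥) {Y : Type*} [Group Y] (e : S ≃* Y) :
    Nat.card M ∣ Nat.card (MulAut Y) := by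
  rw [← Nat.card_congr (MulAut.congr e).toEquiv]
  exact dvd_aut S hC

theorem card_aut_alt_seven : Nat.card (MulAut (alternatingGroup (Fin 7))) = 5040 := by
  have h1 : Nat.card (MulAut (alternatingGroup (Fin 7))) = Nat.card (Equiv.Perm (Fin 7)) :=
    (Nat.card_congr (Equiv.ofBijective _ (S2119.result 7 (by omega) (by omega)))).symm
  rw [h1, Nat.card_perm, Nat.card_eq_fintype_card, Fintype.card_fin]
  decide

theorem card_l34 {K : Type*} [Field K] [Fintype K] (hK : Fintype.card K = 4) :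
    Nat.card (Matrix.ProjectiveSpecialLinearGroup (Fin 3) K) = 20160 :=
  by
  have h := S0243.result (F := K) hK 3 (by norm_num)
  rw [Fin.prod_univ_three] at h
  norm_num at h
  omega

theorem card_u42 {K : Type} [Field K] [Fintype K] (hK : Fintype.card K = 4) : Nat.card (PSU 4 K 2) = 25920 := by
  have h := S0280.result (F := K) (q := 2) (by rw [hK]; norm_num) 4 (by norm_num)
  simp only [Finset.prod_range_succ, Finset.prod_range_zero] at h
  norm_num at h
  omega

theorem card_aut_u42 {K : Type} [Field K] [Fintype K] (hK : Fintype.card K = 4) (hs : IsSimpleGroup (PSU 4 K 2))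
    (hna : ¬ IsMulCommutative (PSU 4 K 2)) : Nat.card (MulAut (PSU 4 K 2)) = 51840 := by
  haveI := Fact.mk Nat.prime_two
  have h1 := H149.PGU.card_out_psu (K := K) (p := 2) (f := 1) (q := 2) (n := 4) le_rfl (by norm_num) (by rw [hK]; norm_num)
    (by norm_num) (by norm_num)
  have hfin : Finite (PSU 4 K 2) := inferInstance
  rw [← H934.OutB.card_out_mul _ hna, h1, card_u42 hK]
  norm_num

/-- `2^7` divides `|PSU_4(q)|`, `q` odd. -/
theorem two_seven {F : Type*} [Field F] [Fintype F] {q : ℕ} (hF : Fintype.card F = q ^ 2) (h2 : ¬ 2 ∣ q) :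
    2 ^ 7 ∣ Nat.card (PSU 4 F q) := by
  have h := S0280.result hF 4 (by norm_num)
  simp only [Finset.prod_range_succ, Finset.prod_range_zero] at h
  norm_num at h
  have hq0 : 0 < q := by
    rcases Nat.eq_zero_or_pos q with h0 | h0
    · exact absurd (h0 ▸ dvd_zero 2) h2
    · exact h0
  have h3 : Nat.gcd 4 (q + 1) * Nat.card (PSU 4 F q) = q ^ 6 * ((q ^ 2 - 1) * (q ^ 3 + 1) * (q ^ 4 - 1)) := by
    apply Nat.eq_of_mul_eq_mul_left (show 0 < q + 1 by omega)
    linear_combination h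
  have hm : q % 16 = 1 ∨ q % 16 = 3 ∨ q % 16 = 5 ∨ q % 16 = 7 ∨ q % 16 = 9 ∨ q % 16 = 11 ∨ q % 16 = 13 ∨
      q % 16 = 15 := by omega
  have h4 : q ^ 4 % 16 = 1 := by
    rcases hm with h | h | h | h | h | h | h | h <;> rw [Nat.pow_mod, h]
  have h5 : q ^ 2 % 16 = 1 ∨ q ^ 2 % 16 = 9 := by
    rcases hm with h | h | h | h | h | h | h | h <;> rw [Nat.pow_mod, h] <;> norm_num
  have d4 : 16 ∣ q ^ 4 - 1 := by omega
  have d2 : 8 ∣ q ^ 2 - 1 := by omega
  rcases (show q % 4 = 1 ∨ q % 4 = 3 by omega) with h6 | h6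
  · have hg : Nat.gcd 4 (q + 1) = 2 := by
      rw [Nat.gcd_rec, Nat.add_mod, h6]; norm_num
    have d3 : 2 ∣ q ^ 3 + 1 := by
      have : q ^ 3 % 2 = 1 := by rw [Nat.pow_mod, show q % 2 = 1 by omega]
      omega
    have h7 : 2 * 2 ^ 7 ∣ 2 * Nat.card (PSU 4 F q) := by
      rw [hg] at h3
      rw [h3]
      have := Nat.mul_dvd_mul (Nat.mul_dvd_mul d2 d3) d4
      exact Dvd.dvd.mul_left this _
    exact Nat.dvd_of_mul_dvd_mul_left (by norm_num) h7
  · have hg : Nat.gcd 4 (q + 1) = 4 := by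
      rw [Nat.gcd_rec, Nat.add_mod, h6]; norm_num
    have d3 : 4 ∣ q ^ 3 + 1 := by
      have : q ^ 3 % 4 = 3 := by rw [Nat.pow_mod, h6]
      omega
    have h7 : 4 * 2 ^ 7 ∣ 4 * Nat.card (PSU 4 F q) := by
      rw [hg] at h3
      rw [h3]
      have := Nat.mul_dvd_mul (Nat.mul_dvd_mul d2 d3) d4
      exact Dvd.dvd.mul_left this _
    exact Nat.dvd_of_mul_dvd_mul_left (by norm_num) h7

theorem prime_of_dvd_aut {r : ℕ} (hr : r.Prime) (h : r ∣ 51840) : r = 2 ∨ r = 3 ∨ r = 5 := by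
  have h1 : r ∣ 2 ^ 7 * (3 ^ 4 * 5) := by norm_num; exact h
  rcases hr.dvd_mul.1 h1 with h2 | h2
  · exact .inl ((Nat.prime_dvd_prime_iff_eq hr Nat.prime_two).1 (hr.dvd_of_dvd_pow h2))
  · rcases hr.dvd_mul.1 h2 with h3 | h3
    · exact .inr (.inl ((Nat.prime_dvd_prime_iff_eq hr Nat.prime_three).1 (hr.dvd_of_dvd_pow h3)))
    · exact .inr (.inr ((Nat.prime_dvd_prime_iff_eq hr (by norm_num)).1 h3))

/-- **U4-RES.** -/
theorem u4_res (OT : OrderTable.{0})
    (hK : ∀ (X : Type) [Group X] [Finite X] [IsSimpleGroup X], Cfsg.IsKnownSimple' X)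
    {F : Type} [Field F] [Fintype F] {q : ℕ} (hF : Fintype.card F = q ^ 2) (h2 : ¬ 2 ∣ q)
    {M : Subgroup (PSU 4 F q)} (hM : IsCoatom M) (hc : Cov (PSU 4 F q) M)
    (hres : InUnitaryResidualClass (pre M))
    (hreal : ∀ r : ℕ, r.Prime → r ≠ 2 → r ∣ q * (q ^ 2 + 1) → RealP (PSU 4 F q) r) : False := by
  have hfin : Finite (PSU 4 F q) := Quotient.finite _
  obtain ⟨P, hP, hq, h⟩ := S5785.result q hF (pre M) (pre_max hM) hres
  obtain ⟨S, hSn, hSs, hna, hC, ⟨e⟩⟩ := exists_res_psu hF (by norm_num) hP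
  have h7 : 2 ^ 7 ∣ Nat.card M := hc.two_part.1 (two_seven hF h2)
  rcases h with ⟨⟨e7⟩, -⟩ | ⟨⟨K, _, _, hKc, ⟨eK⟩⟩, hq3⟩ | ⟨⟨K, _, _, hKc, ⟨eK⟩⟩, hq5⟩
  · have h1 := card_dvd_of_equiv S hC (e.trans e7)
    rw [card_aut_alt_seven] at h1
    exact absurd (h7.trans h1) (by norm_num)
  · subst hq3
    have h1 : Nat.card S = 20160 := by
      rw [Nat.card_congr (e.trans eK).toEquiv]
      exact card_l34 hKc
    have h2' : 20160 ∣ Nat.card M := by rw [← h1]; exact Subgroup.card_subgroup_dvd_card S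
    rcases H251.Small.pgap_u43 OT hK hF M hM.1 with ⟨r, hr, h3, h4⟩ | ⟨⟨e1⟩⟩ | ⟨K', _, _, hK', ⟨e1⟩⟩
    · rw [H844.USeven.card_psu (by rw [hF]; norm_num)] at h3
      have h5 : r ∣ 3265920 := h3
      have h6 : r ∣ (2 * 3 * 5 * 7) ^ 7 := h5.trans (by decide +kernel)
      have h8 : r ∣ 2 * 3 * 5 * 7 := hr.dvd_of_dvd_pow h6
      exact h4 ((h8.trans (by decide : 2 * 3 * 5 * 7 ∣ 20160)).trans h2')
    · have h8 : 2 ^ 7 ∣ Nat.card (alternatingGroup (Fin 7)) := by rw [← Nat.card_congr e1.toEquiv]; exact h7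
      have h9 := H499.TT.card_alt (n := 7) (by norm_num)
      have h10 : Nat.factorial 7 = 5040 := by decide
      rw [h10] at h9
      omega
    · have h8 : 2 ^ 7 ∣ Nat.card (Matrix.ProjectiveSpecialLinearGroup (Fin 3) K') := by
        rw [← Nat.card_congr e1.toEquiv]; exact h7
      rw [card_l34 hK'] at h8
      exact absurd h8 (by norm_num)
  · have hsU : IsSimpleGroup (PSU 4 K 2) := (e.trans eK).symm.isSimpleGroup
    have hnaU : ¬ IsMulCommutative (PSU 4 K 2) := by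
      intro hcc
      apply hna
      refine ⟨⟨fun a b => ?_⟩⟩
      apply (e.trans eK).injective
      rw [map_mul, map_mul]
      exact hcc.is_comm.comm _ _
    have h1 := card_dvd_of_equiv S hC (e.trans eK)
    rw [card_aut_u42 hKc hsU hnaU] at h1
    have hq2 : q ≠ 2 := fun h => h2 (h ▸ dvd_rfl)
    have h3 := prime_of_dvd_aut hq ((hc.dvd (hreal q hq hq2 (Dvd.intro _ rfl))).trans h1)
    have h5 : q = 5 := by omega
    subst h5
    have h13 := hc.dvd (hreal 13 (by norm_num) (by norm_num) (by norm_num))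
    exact absurd (h13.trans h1) (by norm_num)

end Cfsg.Agent.H924.OddM
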